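import Cfsg.Agent.BpSpor.MFiveAbs

/-!
# The situation `Rad`, `p = 3`: elements of order 3 commute with elements of `C_N(u) - ⟨x⟩` (helper883)

`D = N C(z)`, `C_N(z) = ⟨x⟩`, `C(z) / ⟨x, z⟩ ≅ A`; `u ∈ C(z)` an involution, `|C_N(u)| ≥ 3^5`; every element of order 3 of
`A` commutes with a conjugate of `f u`.  Then every `g ∈ D` with `g ^ 3 = 1` commutes with a conjugate of an element of
`C_N(u) - ⟨x⟩` (`exists_comm`).
-/

set_option autoImplicit false
set_option linter.unusedSectionVars false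

namespace Cfsg.Agent.H883.EThree

open Subgroup Cfsg Cfsg.Agent.BpSpor.M5

universe u v

/-! ### An automorphism of order 3 of an elementary abelian 3-group -/

theorem card_le_cube {W : Type*} [AddCommGroup W] [Finite W] (h3 : ∀ w : W, (3 : ℕ) • w = 0) (φ : W →+ W)
    (hφ : ∀ w, φ (φ (φ w)) = w) : Nat.card W ≤ Nat.card {w : W // φ w = w} ^ 3 := by
  set δ : W →+ W := φ - AddMonoidHom.id W with hδ
  have hd : ∀ w, δ w = φ w - w := fun w => rfl
  have hker : Nat.card {w : W // φ w = w} = Nat.card δ.ker := by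
    refine Nat.card_congr (Equiv.subtypeEquivRight fun w => ?_)
    rw [AddMonoidHom.mem_ker, hd, sub_eq_zero]
  have hd3 : ∀ w, δ (δ (δ w)) = 0 := by
    intro w
    have h1 : δ (δ (δ w)) = φ (φ (φ w)) - w - (3 : ℕ) • (φ (φ w)) + (3 : ℕ) • φ w := by
      simp only [hd, map_sub]
      abel
    rw [h1, hφ, h3, h3]
    simp
  rw [hker]
  -- `|K_{i+1}| ≤ |K_i| |K_1|`
  have key : ∀ ψ : W →+ W, Nat.card ((δ.comp ψ).ker) ≤ Nat.card ψ.ker * Nat.card δ.ker := by
    intro ψ
    let α : ↥(δ.comp ψ).ker →+ ↥δ.ker :=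
      { toFun := fun w => ⟨ψ w, by
          have h1 : δ (ψ (w : W)) = 0 := AddMonoidHom.mem_ker.1 w.2
          exact AddMonoidHom.mem_ker.2 h1⟩
        map_zero' := Subtype.ext (map_zero ψ)
        map_add' := fun a b => Subtype.ext (map_add ψ _ _) }
    have h1 : Nat.card ↥(δ.comp ψ).ker = Nat.card ↥α.ker * Nat.card ↥α.range := by
      rw [← AddSubgroup.card_mul_index α.ker, AddSubgroup.index_ker]
    rw [h1]
    refine Nat.mul_le_mul ?_ (Nat.card_le_card_of_injective _ (AddSubgroup.subtype_injective α.range))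
    refine Nat.card_le_card_of_injective (fun w : ↥α.ker => (⟨((w : ↥(δ.comp ψ).ker) : W), ?_⟩ : ↥ψ.ker)) ?_
    · have h2 : α (w : ↥(δ.comp ψ).ker) = 0 := AddMonoidHom.mem_ker.1 w.2
      exact AddMonoidHom.mem_ker.2 (congrArg Subtype.val h2)
    · intro a b hab
      exact Subtype.ext (Subtype.ext (congrArg (fun w : ↥ψ.ker => (w : W)) hab))
  have k2 := key δ
  have k3 := key (δ.comp δ)
  have htop : Nat.card W = Nat.card ↥(δ.comp (δ.comp δ)).ker := by
    have : (δ.comp (δ.comp δ)).ker = ⊤ := by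
      ext w
      simp only [AddMonoidHom.mem_ker, AddMonoidHom.comp_apply, hd3, AddSubgroup.mem_top]
    rw [this]
    exact (Nat.card_congr (AddSubgroup.topEquiv (G := W)).toEquiv).symm
  rw [htop]
  calc Nat.card ↥(δ.comp (δ.comp δ)).ker ≤ Nat.card ↥(δ.comp δ).ker * Nat.card ↥δ.ker := k3
    _ ≤ (Nat.card ↥δ.ker * Nat.card ↥δ.ker) * Nat.card ↥δ.ker := Nat.mul_le_mul_right _ k2
    _ = Nat.card ↥δ.ker ^ 3 := by ring

/-! ### A 3-group `Q` with a central subgroup `Z` of order 3 -/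

/-- `φ` of order 3 on `Q`, `Q / Z` elementary abelian of order `≥ 3 ^ 4`, `Z` central of order 3: `φ` fixes an element of `Q - Z` -/
theorem exists_fixed {Q : Type*} [Group Q] [Finite Q] (Z : Subgroup Q) (hZ : ∀ w ∈ Z, ∀ q : Q, q * w = w * q)
    (hZ3 : Nat.card ↥Z ≤ 3) (hcomm : ∀ a b : Q, a * b * a⁻¹ * b⁻¹ ∈ Z) (hexp : ∀ a : Q, a ^ 3 = 1)
    (hQ : 3 ^ 5 ≤ Nat.card Q) (φ : Q ≃* Q) (hφZ : ∀ w ∈ Z, φ w ∈ Z) (hφ : ∀ q, φ (φ (φ q)) = q) :
    ∃ q : Q, q ∉ Z ∧ φ q = q := by
  have hN : Z.Normal := ⟨fun w hw g => by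
    rw [hZ w hw g, mul_inv_cancel_right]
    exact hw⟩
  let hcg : CommGroup (Q ⧸ Z) :=
    { (inferInstance : Group (Q ⧸ Z)) with
      mul_comm := by
        intro a b
        obtain ⟨a, rfl⟩ := QuotientGroup.mk'_surjective Z a
        obtain ⟨b, rfl⟩ := QuotientGroup.mk'_surjective Z b
        rw [← map_mul, ← map_mul]
        refine (QuotientGroup.eq (s := Z)).2 ?_
        have h1 := hcomm b⁻¹ a⁻¹
        rw [inv_inv, inv_inv] at h1
        rw [mul_inv_rev]
        simpa [mul_assoc] using h1 }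
  let ψ : Q ⧸ Z →* Q ⧸ Z := QuotientGroup.map Z Z φ.toMonoidHom (fun w hw => hφZ w hw)
  have hψ : ∀ q : Q, ψ (QuotientGroup.mk' Z q) = QuotientGroup.mk' Z (φ q) := fun q => rfl
  have h1 := card_le_cube (W := Additive (Q ⧸ Z)) (by
    intro w
    obtain ⟨q, hq⟩ := QuotientGroup.mk'_surjective Z (Additive.toMul w)
    have h2 : (Additive.toMul w) ^ 3 = 1 := by rw [← hq, ← map_pow, hexp, map_one]
    exact h2) (MonoidHom.toAdditive ψ) (by
    intro w
    obtain ⟨q, hq⟩ := QuotientGroup.mk'_surjective Z (Additive.toMul w)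
    have h2 : ψ (ψ (ψ (Additive.toMul w))) = Additive.toMul w := by
      rw [← hq, hψ, hψ, hψ, hφ]
    exact h2)
  have h2 : Nat.card (Additive (Q ⧸ Z)) = Nat.card (Q ⧸ Z) := rfl
  rw [h2] at h1
  have hidx : Nat.card Q = Nat.card (Q ⧸ Z) * Nat.card ↥Z := Subgroup.card_eq_card_quotient_mul_card_subgroup Z
  have h81 : 3 ^ 4 ≤ Nat.card (Q ⧸ Z) := by
    by_contra hlt
    push Not at hlt
    have : Nat.card Q ≤ (3 ^ 4 - 1) * 3 := by
      rw [hidx]
      exact Nat.mul_le_mul (by omega) hZ3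
    norm_num at this hQ
    omega
  -- the fixed points of `ψ`
  let U : Subgroup Q := { carrier := {q | φ q * q⁻¹ ∈ Z}
                          mul_mem' := by
                            intro a b ha hb
                            show φ (a * b) * (a * b)⁻¹ ∈ Z
                            have e : φ (a * b) * (a * b)⁻¹ = φ a * (φ b * b⁻¹) * a⁻¹ := by
                              rw [map_mul]; group
                            rw [e, hZ _ hb, mul_assoc]
                            exact Z.mul_mem hb ha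
                          one_mem' := by
                            show φ 1 * 1⁻¹ ∈ Z
                            rw [map_one, inv_one, mul_one]
                            exact Z.one_mem
                          inv_mem' := by
                            intro a ha
                            show φ a⁻¹ * a⁻¹⁻¹ ∈ Z
                            have e : φ a⁻¹ * a⁻¹⁻¹ = φ a⁻¹ * (φ a * a⁻¹)⁻¹ * φ a := by
                              rw [map_inv]; group
                            rw [e, hZ _ (Z.inv_mem ha), mul_assoc, map_inv, inv_mul_cancel, mul_one]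
                            exact Z.inv_mem ha }
  have hU : ∀ q, q ∈ U ↔ φ q * q⁻¹ ∈ Z := fun q => Iff.rfl
  have hZU : Z ≤ U := fun w hw => (hU w).2 (Z.mul_mem (hφZ w hw) (Z.inv_mem hw))
  have hfix : Nat.card {w : Additive (Q ⧸ Z) // MonoidHom.toAdditive ψ w = w} * Nat.card ↥Z ≤ Nat.card ↥U := by
    have h3 : Nat.card ↥U = Nat.card (↥U ⧸ Z.subgroupOf U) * Nat.card ↥(Z.subgroupOf U) :=
      Subgroup.card_eq_card_quotient_mul_card_subgroup _
    have h4 : Nat.card ↥(Z.subgroupOf U) = Nat.card ↥Z := Nat.card_congr (Subgroup.subgroupOfEquivOfLe hZU).toEquiv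
    rw [h3, h4]
    refine Nat.mul_le_mul_right _ ?_
    -- an injection of the fixed points into the quotient
    have hlift : ∀ w : {w : Additive (Q ⧸ Z) // MonoidHom.toAdditive ψ w = w}, ∃ q : ↥U,
        QuotientGroup.mk' Z (q : Q) = Additive.toMul w.1 := by
      intro w
      obtain ⟨q, hq⟩ := QuotientGroup.mk'_surjective Z (Additive.toMul w.1)
      have h5 : ψ (Additive.toMul w.1) = Additive.toMul w.1 := w.2
      rw [← hq, hψ] at h5
      have h6 : (φ q)⁻¹ * q ∈ Z := (QuotientGroup.eq (s := Z)).1 h5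
      have h7 : φ q * q⁻¹ ∈ Z := by
        have h8 := Z.inv_mem h6
        rw [mul_inv_rev, inv_inv] at h8
        have h9 : q * (q⁻¹ * φ q) * q⁻¹ ∈ Z := hN.conj_mem _ h8 q
        simpa [mul_assoc] using h9
      exact ⟨⟨q, h7⟩, hq⟩
    choose s hs using hlift
    refine Nat.card_le_card_of_injective (fun w => (QuotientGroup.mk (s w) : ↥U ⧸ Z.subgroupOf U)) ?_
    intro a b hab
    have h5 := (QuotientGroup.eq (s := Z.subgroupOf U)).1 hab
    rw [Subgroup.mem_subgroupOf] at h5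
    have h6 : QuotientGroup.mk' Z ((s a : ↥U) : Q) = QuotientGroup.mk' Z ((s b : ↥U) : Q) :=
      (QuotientGroup.eq (s := Z)).2 h5
    rw [hs, hs] at h6
    exact Subtype.ext (Additive.toMul.injective h6)
  -- at least 9 fixed points
  have hnine : 5 ≤ Nat.card {w : Additive (Q ⧸ Z) // MonoidHom.toAdditive ψ w = w} := by
    by_contra hlt
    push Not at hlt
    have : Nat.card {w : Additive (Q ⧸ Z) // MonoidHom.toAdditive ψ w = w} ^ 3 ≤ 4 ^ 3 :=
      Nat.pow_le_pow_left (by omega) 3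
    have h9 := h81.trans (h1.trans this)
    norm_num at h9
  -- the map `U → Z`
  let θ : ↥U →* ↥Z := { toFun := fun q => ⟨φ q * (q : Q)⁻¹, q.2⟩
                        map_one' := Subtype.ext (by
                          show φ 1 * 1⁻¹ = 1
                          rw [map_one, inv_one, mul_one])
                        map_mul' := by
                          intro a b
                          apply Subtype.ext
                          show φ ((a : Q) * b) * ((a : Q) * b)⁻¹ = (φ a * (a : Q)⁻¹) * (φ b * (b : Q)⁻¹)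
                          have e : φ ((a : Q) * b) * ((a : Q) * b)⁻¹ = φ a * (φ b * (b : Q)⁻¹) * (a : Q)⁻¹ := by
                            rw [map_mul]; group
                          rw [e, hZ _ b.2]
                          rw [← hZ _ b.2, mul_assoc, ← hZ _ b.2 ((a : Q)⁻¹)]
                          rw [mul_assoc] }
  by_contra hno
  push Not at hno
  have hkerle : Nat.card ↥θ.ker ≤ Nat.card ↥Z := by
    refine Nat.card_le_card_of_injective (fun q : ↥θ.ker => (⟨((q : ↥U) : Q), ?_⟩ : ↥Z)) ?_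
    · by_contra hq
      refine hno _ hq ?_
      have h5 : θ (q : ↥U) = 1 := MonoidHom.mem_ker.1 q.2
      have h6 : φ ((q : ↥U) : Q) * ((q : ↥U) : Q)⁻¹ = 1 := congrArg Subtype.val h5
      exact mul_inv_eq_one.1 h6
    · intro a b hab
      exact Subtype.ext (Subtype.ext (congrArg (fun w : ↥Z => (w : Q)) hab))
  have hcardU : Nat.card ↥U = Nat.card ↥θ.ker * Nat.card ↥θ.range := by
    rw [← Subgroup.card_mul_index θ.ker, Subgroup.index_ker]
  have hr : Nat.card ↥θ.range ≤ 3 := (Nat.card_le_card_of_injective _ (Subgroup.subtype_injective θ.range)).trans hZ3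
  have hpos : 0 < Nat.card ↥Z := Nat.card_pos
  have h10 : 5 * Nat.card ↥Z ≤ Nat.card ↥Z * 3 :=
    calc 5 * Nat.card ↥Z ≤ _ * Nat.card ↥Z := Nat.mul_le_mul_right _ hnine
      _ ≤ Nat.card ↥U := hfix
      _ = Nat.card ↥θ.ker * Nat.card ↥θ.range := hcardU
      _ ≤ Nat.card ↥Z * 3 := Nat.mul_le_mul hkerle hr
  omega

/-! ### The situation `Rad` -/

section

variable {D : Type u} [Group D] [Finite D] {z x : D} {N : Subgroup D} {A : Type v} [Group A]
  {f : ↥(centralizer ({z} : Set D)) →* A}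

/-- `N` is normalised and `C(u)` mod `N` too: `g = n c` with `c` commuting with `u` acts on `C_N(u)` -/
theorem fix_of_comm [hp : Fact (Nat.Prime 3)] (h : Rad 3 z x N f) (hexp : ∀ n ∈ N, n ^ 3 = 1) {u : D}
    (hcard : 3 ^ 5 ≤ Nat.card ↥(N ⊓ centralizer ({u} : Set D))) {n c : D} (hn : n ∈ N) (hcu : c * u = u * c)
    (hg : (n * c) ^ 3 = 1) :
    ∃ q : D, q ∈ N ∧ q * u = u * q ∧ q ∉ zpowers x ∧ (n * c) * q = q * (n * c) := by
  have hN := h.nN
  set Q : Subgroup D := N ⊓ centralizer ({u} : Set D) with hQ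
  have memQ : ∀ q, q ∈ Q ↔ q ∈ N ∧ q * u = u * q := fun q => by
    rw [hQ, mem_inf, mem_centralizer_singleton_iff]
  have hxQ : ∀ i : ℤ, x ^ i ∈ Q := fun i => (memQ _).2 ⟨N.zpow_mem h.xN i, by rw [h.xzc]⟩
  have hconjc : ∀ q ∈ Q, c * q * c⁻¹ ∈ Q := by
    intro q hq
    obtain ⟨h1, h2⟩ := (memQ q).1 hq
    refine (memQ _).2 ⟨hN.conj_mem q h1 c, ?_⟩
    calc c * q * c⁻¹ * u = c * q * (c⁻¹ * u * c) * c⁻¹ := by group
      _ = c * q * (c⁻¹ * (c * u)) * c⁻¹ := by rw [mul_assoc c⁻¹ u c, ← hcu]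
      _ = c * (q * u) * c⁻¹ := by group
      _ = c * (u * q) * c⁻¹ := by rw [h2]
      _ = (c * u) * q * c⁻¹ := by group
      _ = (u * c) * q * c⁻¹ := by rw [hcu]
      _ = _ := by group
  have hconj : ∀ q ∈ Q, (n * c) * q * (n * c)⁻¹ ∈ Q := by
    intro q hq
    have h1 := hconjc q hq
    obtain ⟨i, hi⟩ := h.comm (by norm_num) hn ((memQ _).1 h1).1
    have h2 : (n * c) * q * (n * c)⁻¹ = n * (c * q * c⁻¹) * n⁻¹ := by group
    rw [h2, hi]
    exact Q.mul_mem h1 (hxQ i)
  set g := n * c with hgdef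
  have hginv : ∀ q ∈ Q, g⁻¹ * q * g ∈ Q := by
    intro q hq
    have h1 := hconj _ (hconj q hq)
    have h2 : g * (g * q * g⁻¹) * g⁻¹ = g⁻¹ * q * g := by
      have h3 : g * g = g⁻¹ := by
        rw [eq_comm, inv_eq_iff_mul_eq_one]
        rw [← hg]; simp [pow_succ, mul_assoc]
      calc g * (g * q * g⁻¹) * g⁻¹ = (g * g) * q * (g * g)⁻¹ := by group
        _ = _ := by rw [h3, inv_inv]
    rwa [h2] at h1
  let φ : ↥Q ≃* ↥Q :=
    { toFun := fun q => ⟨g * q * g⁻¹, hconj q q.2⟩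
      invFun := fun q => ⟨g⁻¹ * q * g, hginv q q.2⟩
      left_inv := fun q => Subtype.ext (by show g⁻¹ * (g * q * g⁻¹) * g = q; group)
      right_inv := fun q => Subtype.ext (by show g * (g⁻¹ * q * g) * g⁻¹ = q; group)
      map_mul' := fun a b => Subtype.ext (by show g * (a * b) * g⁻¹ = (g * a * g⁻¹) * (g * b * g⁻¹); group) }
  obtain ⟨q, hqZ, hq⟩ := exists_fixed (Q := ↥Q) ((zpowers x).subgroupOf Q) (by
      intro w hw q
      rw [mem_subgroupOf] at hw
      obtain ⟨i, hi⟩ := mem_zpowers_iff.1 hw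
      apply Subtype.ext
      show (q : D) * w = w * q
      rw [← hi, h.xzc]) (by
      have h1 : Nat.card ↥((zpowers x).subgroupOf Q) ≤ Nat.card ↥(zpowers x) := by
        rw [← Subgroup.card_map_of_injective (Subgroup.subtype_injective Q), Subgroup.subgroupOf_map_subtype]
        exact Nat.card_le_card_of_injective _ (Subgroup.inclusion_injective inf_le_left)
      rwa [Nat.card_zpowers, h.ox] at h1) (by
      intro a b
      rw [mem_subgroupOf]
      obtain ⟨i, hi⟩ := h.comm (by norm_num) ((memQ _).1 a.2).1 ((memQ _).1 b.2).1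
      show (a : D) * b * (a : D)⁻¹ * (b : D)⁻¹ ∈ zpowers x
      rw [hi, h.xzc, mul_inv_cancel_right]
      exact zpow_mem (mem_zpowers x) i) (by
      intro a
      apply Subtype.ext
      exact hexp a ((memQ _).1 a.2).1) hcard φ (by
      intro w hw
      rw [mem_subgroupOf] at hw ⊢
      obtain ⟨i, hi⟩ := mem_zpowers_iff.1 hw
      show g * (w : D) * g⁻¹ ∈ zpowers x
      rw [← hi, h.xzc, mul_inv_cancel_right]
      exact zpow_mem (mem_zpowers x) i) (by
      intro q
      apply Subtype.ext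
      show g * (g * (g * q * g⁻¹) * g⁻¹) * g⁻¹ = q
      have e : g * (g * (g * (q : D) * g⁻¹) * g⁻¹) * g⁻¹ = g ^ 3 * q * (g ^ 3)⁻¹ := by
        simp only [pow_succ, pow_zero, one_mul, mul_inv_rev, mul_assoc]
      rw [e, hg, one_mul, inv_one, mul_one])
  obtain ⟨h1, h2⟩ := (memQ _).1 q.2
  refine ⟨q, h1, h2, fun hm => hqZ (mem_subgroupOf.2 hm), ?_⟩
  have h3 : g * (q : D) * g⁻¹ = q := congrArg Subtype.val hq
  exact mul_inv_eq_iff_eq_mul.1 h3

/-- **Elements of order 3 of `D` commute with an element of a conjugate of `C_N(u) - ⟨x⟩`.** -/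
theorem exists_comm [hp : Fact (Nat.Prime 3)] [IsSimpleGroup A] (hAc : ¬ Group.IsSolvable A) (h : Rad 3 z x N f)
    (hexp : ∀ n ∈ N, n ^ 3 = 1) {u : D} (hu : u * u = 1)
    (huz : u * z = z * u) (hcard : 3 ^ 5 ≤ Nat.card ↥(N ⊓ centralizer ({u} : Set D)))
    (hA : ∀ a : A, a ^ 3 = 1 → ∃ s : A,
      (s * f ⟨u, mem_centralizer_singleton_iff.2 huz⟩ * s⁻¹) * a = a * (s * f ⟨u, mem_centralizer_singleton_iff.2 huz⟩ * s⁻¹))
    {g : D} (hg : g ^ 3 = 1) :
    ∃ d q : D, q ∈ N ∧ q * u = u * q ∧ q ∉ zpowers x ∧ g * (d * q * d⁻¹) = (d * q * d⁻¹) * g := by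
  have hN := h.nN
  obtain ⟨n, hn, c, hc, rfl⟩ := h.sup g
  set c' : ↥(centralizer ({z} : Set D)) := ⟨c, mem_centralizer_singleton_iff.2 hc⟩ with hc'
  set u' : ↥(centralizer ({z} : Set D)) := ⟨u, mem_centralizer_singleton_iff.2 huz⟩ with hu'
  -- `c ^ 3 ∈ N ∩ C(z) = ⟨x⟩`
  have hc3 : c ^ 3 ∈ zpowers x := by
    refine h.cN _ ?_ ?_
    · set q := QuotientGroup.mk' N with hq
      have h1 : q (n * c) = q c := by rw [map_mul, show q n = 1 from (QuotientGroup.eq_one_iff n).2 hn, one_mul]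
      have h2 : q c ^ 3 = 1 := by rw [← h1, ← map_pow, hg, map_one]
      rw [← map_pow] at h2
      exact (QuotientGroup.eq_one_iff _).1 h2
    · exact ((show Commute c z from hc).pow_left 3).eq
  obtain ⟨j, hj⟩ := mem_zpowers_iff.1 hc3
  have hfx : f c' ^ 3 = 1 := by
    rw [← map_pow]
    refine h.f_central hAc fun g => Subtype.ext ?_
    show (g : D) * c ^ 3 = c ^ 3 * g
    rw [← hj]
    exact h.xzc j g
  obtain ⟨s, hs⟩ := hA _ hfx
  obtain ⟨t, rfl⟩ := h.surj s
  -- `c₂ = t⁻¹ c t`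
  set c₂ : ↥(centralizer ({z} : Set D)) := t⁻¹ * c' * t with hc₂
  have hcomm : f (c₂ * u' * c₂⁻¹ * u'⁻¹) = 1 := by
    have e : f c₂ = (f t)⁻¹ * f c' * f t := by rw [hc₂, map_mul, map_mul, map_inv]
    have e2 : f c₂ * f u' = f u' * f c₂ := by
      rw [e]
      calc (f t)⁻¹ * f c' * f t * f u' = (f t)⁻¹ * (f c' * (f t * f u' * (f t)⁻¹)) * f t := by group
        _ = (f t)⁻¹ * ((f t * f u' * (f t)⁻¹) * f c') * f t := by rw [hs]
        _ = _ := by group
    rw [map_mul, map_mul, map_mul, map_inv, map_inv, e2, mul_inv_cancel_right, mul_inv_cancel]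
  have hc₂z : (c₂ : D) * z = z * c₂ := mem_centralizer_singleton_iff.1 c₂.2
  have hc₂3 : (c₂ : D) ^ 3 = x ^ j := by
    have e : (c₂ : D) = (t : D)⁻¹ * c * t := rfl
    have e3 : ((t : D)⁻¹ * c * t) ^ 3 = (t : D)⁻¹ * c ^ 3 * t := by
      simp only [pow_succ, pow_zero, one_mul]; group
    rw [e, e3, ← hj, h.xzc, mul_assoc, inv_mul_cancel, mul_one]
  have hconj : (c₂ : D) * u * (c₂ : D)⁻¹ = u ∨ (c₂ : D) * u * (c₂ : D)⁻¹ = z * u := by
    have hsq : ((c₂ : D) * u * (c₂ : D)⁻¹) * ((c₂ : D) * u * (c₂ : D)⁻¹) = 1 := by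
      calc ((c₂ : D) * u * (c₂ : D)⁻¹) * ((c₂ : D) * u * (c₂ : D)⁻¹) = (c₂ : D) * (u * u) * (c₂ : D)⁻¹ := by group
        _ = 1 := by rw [hu, mul_one, mul_inv_cancel]
    obtain ⟨i, hi | hi⟩ := h.ker _ hcomm
    · left
      have e : (c₂ : D) * u * (c₂ : D)⁻¹ = x ^ i * u := by
        have e0 : (c₂ : D) * u * (c₂ : D)⁻¹ * u⁻¹ = x ^ i := hi
        rw [← e0, inv_mul_cancel_right]
      rw [e] at hsq
      have h1 : x ^ i * x ^ i = 1 := by
        calc x ^ i * x ^ i = x ^ i * (x ^ i * (u * u)) := by rw [hu, mul_one]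
          _ = x ^ i * ((x ^ i * u) * u) := by rw [mul_assoc (x ^ i) u u]
          _ = x ^ i * ((u * x ^ i) * u) := by rw [h.xzc]
          _ = (x ^ i * u) * (x ^ i * u) := by group
          _ = 1 := hsq
      rw [e, h.sq_one (by norm_num) h1, one_mul]
    · right
      have e : (c₂ : D) * u * (c₂ : D)⁻¹ = x ^ i * z * u := by
        have e0 : (c₂ : D) * u * (c₂ : D)⁻¹ * u⁻¹ = x ^ i * z := hi
        rw [← e0, inv_mul_cancel_right]
      rw [e] at hsq
      have hzu : (z * u) * (z * u) = 1 := by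
        calc (z * u) * (z * u) = (z * (u * z)) * u := by group
          _ = (z * (z * u)) * u := by rw [huz]
          _ = (z * z) * (u * u) := by group
          _ = 1 := by rw [h.zz, hu, mul_one]
      have h1 : x ^ i * x ^ i = 1 := by
        calc x ^ i * x ^ i = x ^ i * (x ^ i * ((z * u) * (z * u))) := by rw [hzu, mul_one]
          _ = x ^ i * ((x ^ i * (z * u)) * (z * u)) := by group
          _ = x ^ i * (((z * u) * x ^ i) * (z * u)) := by rw [h.xzc]
          _ = (x ^ i * z * u) * (x ^ i * z * u) := by group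
          _ = 1 := hsq
      rw [e, h.sq_one (by norm_num) h1, one_mul]
  have hcu : (c₂ : D) * u = u * c₂ := by
    rcases hconj with h1 | h1
    · exact mul_inv_eq_iff_eq_mul.1 h1
    · exfalso
      apply h.z1
      have h2 : (c₂ : D) * (z * u) * (c₂ : D)⁻¹ = u := by
        calc (c₂ : D) * (z * u) * (c₂ : D)⁻¹ = ((c₂ : D) * z) * u * (c₂ : D)⁻¹ := by group
          _ = (z * c₂) * u * (c₂ : D)⁻¹ := by rw [hc₂z]
          _ = z * ((c₂ : D) * u * (c₂ : D)⁻¹) := by group
          _ = z * (z * u) := by rw [h1]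
          _ = (z * z) * u := by group
          _ = u := by rw [h.zz, one_mul]
      have h3 : (c₂ : D) ^ 3 * u * ((c₂ : D) ^ 3)⁻¹ = z * u := by
        calc (c₂ : D) ^ 3 * u * ((c₂ : D) ^ 3)⁻¹
            = (c₂ : D) * ((c₂ : D) * ((c₂ : D) * u * (c₂ : D)⁻¹) * (c₂ : D)⁻¹) * (c₂ : D)⁻¹ := by
              simp only [pow_succ, pow_zero, one_mul, mul_inv_rev, mul_assoc]
          _ = z * u := by rw [h1, h2, h1]
      rw [hc₂3, ← h.xzc, mul_inv_cancel_right] at h3
      exact (mul_eq_right.1 h3.symm)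
  have hn₂ : (t : D)⁻¹ * n * t ∈ N := by
    have := hN.conj_mem n hn (t : D)⁻¹
    rwa [inv_inv] at this
  have hg₂ : ((t : D)⁻¹ * n * t * (c₂ : D)) ^ 3 = 1 := by
    have e : (t : D)⁻¹ * n * t * (c₂ : D) = (t : D)⁻¹ * (n * c) * t := by
      show (t : D)⁻¹ * n * t * ((t : D)⁻¹ * c * t) = (t : D)⁻¹ * (n * c) * t
      group
    have e3 : ((t : D)⁻¹ * (n * c) * t) ^ 3 = (t : D)⁻¹ * (n * c) ^ 3 * t := by
      simp only [pow_succ, pow_zero, one_mul]; group
    rw [e, e3, hg, mul_one, inv_mul_cancel]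
  obtain ⟨q, hq, hqu, hqx, hqg⟩ := fix_of_comm h hexp hcard hn₂ hcu hg₂
  refine ⟨t, q, hq, hqu, hqx, ?_⟩
  have e : (t : D)⁻¹ * n * t * (c₂ : D) = (t : D)⁻¹ * (n * c) * t := by
    show (t : D)⁻¹ * n * t * ((t : D)⁻¹ * c * t) = (t : D)⁻¹ * (n * c) * t
    group
  rw [e] at hqg
  calc n * c * ((t : D) * q * (t : D)⁻¹) = t * ((t : D)⁻¹ * (n * c) * t * q) * (t : D)⁻¹ := by group
    _ = t * (q * ((t : D)⁻¹ * (n * c) * t)) * (t : D)⁻¹ := by rw [hqg]
    _ = _ := by group

end

end Cfsg.Agent.H883.EThree
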